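import Mathlib
import Groth.Prelude.Def_ComodSub

/-!
# Passing between left and right comodules with the antipode
-/

universe u v w
open TensorProduct Coalgebra
noncomputable section

namespace Groth.Agent.ComodSide

variable {k : Type u} [CommRing k] {A : Type v} [CommRing A] [HopfAlgebra k A]

local notation "ι₁" => (Algebra.TensorProduct.includeLeft : A →ₐ[k] A ⊗[k] A)
local notation "ι₂" => (Algebra.TensorProduct.includeRight : A →ₐ[k] A ⊗[k] A)
local notation "Sₐ" => HopfAlgebra.antipodeAlgHom k A

lemma toConv_comul_eq : WithConv.toConv (Bialgebra.comulAlgHom k A) =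
    WithConv.toConv ι₁ * WithConv.toConv ι₂ := by
  refine WithConv.ext (AlgHom.ext fun a => ?_)
  simp only [AlgHom.convMul_def, WithConv.ofConv_toConv, AlgHom.comp_apply, Bialgebra.comulAlgHom_apply]
  generalize comul (R := k) a = t
  induction t using TensorProduct.induction_on with
  | zero => simp
  | tmul x y => simp
  | add x y hx hy => simp only [map_add, ← hx, ← hy]

lemma comul_antipode (a : A) : comul (R := k) (HopfAlgebra.antipode k a) =
    TensorProduct.comm k A A (TensorProduct.map (HopfAlgebra.antipode k) (HopfAlgebra.antipode k) (comul a)) := by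
  let I₁ : WithConv (A →ₐ[k] A ⊗[k] A) := WithConv.toConv ι₁
  let I₂ : WithConv (A →ₐ[k] A ⊗[k] A) := WithConv.toConv ι₂
  have hmap : ∀ (h : A →ₐ[k] A ⊗[k] A),
      WithConv.toConv h * WithConv.toConv (h.comp Sₐ) = (1 : WithConv (A →ₐ[k] A ⊗[k] A)) := by
    intro h
    refine WithConv.ext ?_
    have e := congr_arg (fun z => h.comp (WithConv.ofConv z))
      (mul_inv_cancel (WithConv.toConv (AlgHom.id k A)))
    simp only [AlgHom.comp_convMul_distrib, WithConv.ofConv_toConv] at e
    refine Eq.trans ?_ (e.trans ?_)
    · rfl
    · exact AlgHom.ext fun a => by simp [AlgHom.convOne_def]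
  have hright : WithConv.toConv (Bialgebra.comulAlgHom k A) *
      (WithConv.toConv ((ι₂).comp Sₐ) * WithConv.toConv ((ι₁).comp Sₐ)) = 1 := by
    rw [toConv_comul_eq, mul_assoc, ← mul_assoc (WithConv.toConv ι₂), hmap, one_mul, hmap]
  have hleft : WithConv.toConv ((Bialgebra.comulAlgHom k A).comp Sₐ) *
      WithConv.toConv (Bialgebra.comulAlgHom k A) = 1 := by
    refine WithConv.ext ?_
    have e := congr_arg (fun z => (Bialgebra.comulAlgHom k A).comp (WithConv.ofConv z))
      (AlgHom.antipode_id_cancel (R := k) (A := A))
    simp only [AlgHom.comp_convMul_distrib, WithConv.ofConv_toConv, AlgHom.comp_id] at e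
    rw [e]
    exact AlgHom.ext fun a => by simp [AlgHom.convOne_def]
  have key := congr_arg (fun z => (WithConv.ofConv z) a) (left_inv_eq_right_inv hleft hright)
  simp only [WithConv.ofConv_toConv, AlgHom.comp_apply, AlgHom.convMul_apply] at key
  refine key.trans ?_
  generalize comul (R := k) a = t
  induction t using TensorProduct.induction_on with
  | zero => simp
  | tmul x y => simp
  | add x y hx hy => simp only [map_add, hx, hy]

variable {M : Type w} [AddCommGroup M] [Module k M]

/-- `a ⊗ (b ⊗ m) ↦ m ⊗ (S b ⊗ S a)`. -/
def flipS : A ⊗[k] (A ⊗[k] M) →ₗ[k] M ⊗[k] (A ⊗[k] A) :=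
  (TensorProduct.assoc k M A A).toLinearMap ∘ₗ
    ((TensorProduct.comm k A M).toLinearMap ∘ₗ (HopfAlgebra.antipode k).rTensor M).rTensor A ∘ₗ
      (TensorProduct.comm k A (A ⊗[k] M)).toLinearMap ∘ₗ (HopfAlgebra.antipode k).rTensor (A ⊗[k] M)

/-- `(m ⊗ b) ⊗ a ↦ S a ⊗ (S b ⊗ m)`. -/
def flipS' : M ⊗[k] (A ⊗[k] A) →ₗ[k] A ⊗[k] (A ⊗[k] M) :=
  (((TensorProduct.comm k M A).toLinearMap ∘ₗ (HopfAlgebra.antipode k).lTensor M).lTensor A) ∘ₗ
    (HopfAlgebra.antipode k).rTensor (M ⊗[k] A) ∘ₗ (TensorProduct.comm k (M ⊗[k] A) A).toLinearMap ∘ₗ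
      (TensorProduct.assoc k M A A).symm.toLinearMap

theorem exists_right (l : ComodSub.LComod k A M) : ∃ c : HopfRep.Comod k A M, c.coact = ComodSub.rcoactOfLeft l := by
  have h1 : ∀ t : A ⊗[k] M, (TensorProduct.assoc k M A A) ((ComodSub.rcoactOfLeft l).rTensor A
      ((TensorProduct.comm k A M) ((HopfAlgebra.antipode k).rTensor M t))) = flipS (l.coact.lTensor A t) := fun t => by
    induction t using TensorProduct.induction_on with
    | zero => simp
    | add x y hx hy => simp only [map_add, hx, hy]
    | tmul a m =>
      simp only [LinearMap.rTensor_tmul, TensorProduct.comm_tmul, LinearMap.lTensor_tmul, flipS, LinearMap.comp_apply,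
        LinearEquiv.coe_coe, ComodSub.rcoactOfLeft]
  have h2 : ∀ t : A ⊗[k] M, flipS ((TensorProduct.assoc k A A M) ((comul (R := k) (A := A)).rTensor M t)) =
      (comul (R := k) (A := A)).lTensor M ((TensorProduct.comm k A M) ((HopfAlgebra.antipode k).rTensor M t)) := fun t => by
    induction t using TensorProduct.induction_on with
    | zero => simp
    | add x y hx hy => simp only [map_add, hx, hy]
    | tmul a m =>
      simp only [LinearMap.rTensor_tmul, TensorProduct.comm_tmul, LinearMap.lTensor_tmul]
      rw [comul_antipode]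
      generalize comul (R := k) a = s
      induction s using TensorProduct.induction_on with
      | zero => simp
      | tmul x y => simp [flipS]
      | add x y hx hy => simp only [map_add, TensorProduct.add_tmul, TensorProduct.tmul_add, hx, hy]
  refine ⟨{ coact := ComodSub.rcoactOfLeft l, coassoc := ?_, counit_comp := ?_ }, rfl⟩
  · refine LinearMap.ext fun v => ?_
    show (TensorProduct.assoc k M A A) ((ComodSub.rcoactOfLeft l).rTensor A (ComodSub.rcoactOfLeft l v)) =
      (comul (R := k) (A := A)).lTensor M (ComodSub.rcoactOfLeft l v)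
    rw [ComodSub.rcoactOfLeft, LinearMap.comp_apply, LinearMap.comp_apply, LinearEquiv.coe_coe]
    rw [← ComodSub.rcoactOfLeft]
    exact ((h1 _).trans (congrArg flipS (DFunLike.congr_fun l.coassoc v))).trans (h2 _)
  · refine LinearMap.ext fun v => ?_
    have h3 : ∀ t : A ⊗[k] M, (counit (R := k) (A := A)).lTensor M ((TensorProduct.comm k A M)
        ((HopfAlgebra.antipode k).rTensor M t)) = TensorProduct.comm k k M ((counit (R := k) (A := A)).rTensor M t) := fun t => by
      induction t using TensorProduct.induction_on with
      | zero => simp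
      | add x y hx hy => simp only [map_add, hx, hy]
      | tmul a m => simp [HopfAlgebra.counit_antipode]
    refine (h3 _).trans ?_
    rw [show (counit (R := k) (A := A)).rTensor M (l.coact v) = TensorProduct.mk k k M 1 v from DFunLike.congr_fun l.counit_comp v]
    rfl

theorem exists_left (c : HopfRep.Comod k A M) : ∃ l : ComodSub.LComod k A M, l.coact = ComodSub.lcoactOfRight c := by
  have h1 : ∀ t : M ⊗[k] A, (ComodSub.lcoactOfRight c).lTensor A
      ((TensorProduct.comm k M A) ((HopfAlgebra.antipode k).lTensor M t)) =
      flipS' ((TensorProduct.assoc k M A A) (c.coact.rTensor A t)) := fun t => by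
    induction t using TensorProduct.induction_on with
    | zero => simp
    | add x y hx hy => simp only [map_add, hx, hy]
    | tmul m a =>
      simp only [LinearMap.rTensor_tmul, TensorProduct.comm_tmul, LinearMap.lTensor_tmul, flipS', LinearMap.comp_apply,
        LinearEquiv.coe_coe, LinearEquiv.symm_apply_apply, ComodSub.lcoactOfRight]
  have h2 : ∀ t : M ⊗[k] A, flipS' ((comul (R := k) (A := A)).lTensor M t) = (TensorProduct.assoc k A A M)
      ((comul (R := k) (A := A)).rTensor M ((TensorProduct.comm k M A) ((HopfAlgebra.antipode k).lTensor M t))) := fun t => by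
    induction t using TensorProduct.induction_on with
    | zero => simp
    | add x y hx hy => simp only [map_add, hx, hy]
    | tmul m a =>
      simp only [LinearMap.rTensor_tmul, TensorProduct.comm_tmul, LinearMap.lTensor_tmul]
      rw [comul_antipode]
      generalize comul (R := k) a = s
      induction s using TensorProduct.induction_on with
      | zero => simp
      | tmul x y => simp [flipS']
      | add x y hx hy => simp only [map_add, TensorProduct.add_tmul, TensorProduct.tmul_add, hx, hy]
  refine ⟨{ coact := ComodSub.lcoactOfRight c, coassoc := ?_, counit_comp := ?_ }, rfl⟩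
  · refine LinearMap.ext fun v => ?_
    exact ((h1 _).trans (congrArg flipS' (DFunLike.congr_fun c.coassoc v))).trans (h2 _)
  · refine LinearMap.ext fun v => ?_
    have h3 : ∀ t : M ⊗[k] A, (counit (R := k) (A := A)).rTensor M ((TensorProduct.comm k M A)
        ((HopfAlgebra.antipode k).lTensor M t)) = TensorProduct.comm k M k ((counit (R := k) (A := A)).lTensor M t) := fun t => by
      induction t using TensorProduct.induction_on with
      | zero => simp
      | add x y hx hy => simp only [map_add, hx, hy]
      | tmul a m => simp [HopfAlgebra.counit_antipode]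
    refine (h3 _).trans ?_
    rw [show (counit (R := k) (A := A)).lTensor M (c.coact v) = (TensorProduct.mk k M k).flip 1 v from DFunLike.congr_fun c.counit_comp v]
    rfl

end Groth.Agent.ComodSide
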